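/-
Large extraspecial 2-subgroups (helper18): elementary tools on the structure `ES`.
-/
import Cfsg.Agent.Lib.TwoFusion.Extraspecial
import Cfsg.Agent.Lib.Fusion2.Group

set_option autoImplicit false

namespace Cfsg.Agent.Lib.LargeX

open Subgroup Cfsg Cfsg.Agent.Lib.TwoFusion

variable {G : Type*} [Group G]

/-- Conjugates of elements of `Q` by the same element. -/
theorem es_conj {Q : Subgroup G} {z : G} (h : ES Q z) (g : G) :
    ES (Q.map (MulAut.conj g).toMonoidHom) (g * z * g⁻¹) := by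
  have hm : ∀ a, a ∈ Q → g * a * g⁻¹ ∈ Q.map (MulAut.conj g).toMonoidHom := fun a ha => ⟨a, ha, rfl⟩
  refine ⟨hm _ h.z_mem, ?_, ?_, ?_, ?_, ?_, ?_⟩
  · intro h1
    apply h.z_ne
    have : z = g⁻¹ * (g * z * g⁻¹) * g := by group
    rw [this, h1]
    group
  · have : g * z * g⁻¹ * (g * z * g⁻¹) = g * (z * z) * g⁻¹ := by group
    rw [this, h.z_sq]
    group
  · rintro _ ⟨q, hq, rfl⟩
    show g * q * g⁻¹ * (g * z * g⁻¹) = g * z * g⁻¹ * (g * q * g⁻¹)
    have e1 : g * q * g⁻¹ * (g * z * g⁻¹) = g * (q * z) * g⁻¹ := by group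
    have e2 : g * z * g⁻¹ * (g * q * g⁻¹) = g * (z * q) * g⁻¹ := by group
    rw [e1, e2, h.z_central q hq]
  · rintro _ ⟨a, ha, rfl⟩ _ ⟨b, hb, rfl⟩
    show g * a * g⁻¹ * (g * b * g⁻¹) * (g * a * g⁻¹)⁻¹ * (g * b * g⁻¹)⁻¹ = 1 ∨
      g * a * g⁻¹ * (g * b * g⁻¹) * (g * a * g⁻¹)⁻¹ * (g * b * g⁻¹)⁻¹ = g * z * g⁻¹
    have e : g * a * g⁻¹ * (g * b * g⁻¹) * (g * a * g⁻¹)⁻¹ * (g * b * g⁻¹)⁻¹
        = g * (a * b * a⁻¹ * b⁻¹) * g⁻¹ := by group
    rw [e]
    rcases h.comm a ha b hb with h1 | h1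
    · left
      rw [h1]
      group
    · right
      rw [h1]
  · rintro _ ⟨a, ha, rfl⟩
    show g * a * g⁻¹ * (g * a * g⁻¹) = 1 ∨ g * a * g⁻¹ * (g * a * g⁻¹) = g * z * g⁻¹
    have e : g * a * g⁻¹ * (g * a * g⁻¹) = g * (a * a) * g⁻¹ := by group
    rw [e]
    rcases h.sq a ha with h1 | h1
    · left
      rw [h1]
      group
    · right
      rw [h1]
  · rintro _ ⟨a, ha, rfl⟩ hc
    have h2 : ∀ q ∈ Q, q * a = a * q := by
      intro q hq
      have h3 := hc _ (hm q hq)
      have h4 : g * q * g⁻¹ * (g * a * g⁻¹) = g * (q * a) * g⁻¹ := by group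
      have h5 : g * a * g⁻¹ * (g * q * g⁻¹) = g * (a * q) * g⁻¹ := by group
      change g * q * g⁻¹ * (g * a * g⁻¹) = g * a * g⁻¹ * (g * q * g⁻¹) at h3
      rw [h4, h5] at h3
      exact mul_left_cancel (mul_right_cancel h3)
    rcases h.center a ha h2 with h1 | h1
    · left
      show g * a * g⁻¹ = 1
      rw [h1]
      group
    · right
      show g * a * g⁻¹ = _
      rw [h1]

namespace ES'

variable {Q : Subgroup G} {z : G}

/-- The commutator of two non-commuting elements is the central involution. -/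
theorem comm_eq (h : ES Q z) {a b : G} (ha : a ∈ Q) (hb : b ∈ Q) (hab : a * b ≠ b * a) :
    a * b * a⁻¹ * b⁻¹ = z := by
  rcases h.comm a ha b hb with h1 | h1
  · exfalso
    apply hab
    calc a * b = (a * b * a⁻¹ * b⁻¹) * (b * a) := by group
      _ = b * a := by rw [h1, one_mul]
  · exact h1

/-- Conjugation moves an element by the central involution at most. -/
theorem conj_eq (h : ES Q z) {a b : G} (ha : a ∈ Q) (hb : b ∈ Q) (hab : a * b ≠ b * a) :
    a * b * a⁻¹ = z * b := by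
  have h1 := comm_eq h ha hb hab
  rw [← h1]
  group

/-- A non-central element has a non-commuting partner. -/
theorem exists_noncomm (h : ES Q z) {a : G} (ha : a ∈ Q) (h1 : a ≠ 1) (hz : a ≠ z) :
    ∃ b ∈ Q, b * a ≠ a * b := by
  by_contra hc
  push Not at hc
  rcases h.center a ha hc with e | e
  · exact h1 e
  · exact hz e

/-- The double centralizer theorem. -/
theorem dc [Finite G] (h : ES Q z) {A : Subgroup G} (hAQ : A ≤ Q) (hzA : z ∈ A) {a : G} (ha : a ∈ Q)
    (hc : ∀ c ∈ Q, (∀ b ∈ A, c * b = b * c) → a * c = c * a) : a ∈ A := by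
  let C : Subgroup G := Q ⊓ centralizer (A : Set G)
  have hCQ : C ≤ Q := inf_le_left
  have hzC : z ∈ C := by
    refine Subgroup.mem_inf.mpr ⟨h.z_mem, Subgroup.mem_centralizer_iff.mpr ?_⟩
    intro b hb
    exact h.z_central b (hAQ hb)
  have h1 := ES.card_centralizer_mul h A hAQ hzA
  have h2 := ES.card_centralizer_mul h C hCQ hzC
  let D : Subgroup G := Q ⊓ centralizer (C : Set G)
  have hAD : A ≤ D := by
    intro b hb
    refine Subgroup.mem_inf.mpr ⟨hAQ hb, Subgroup.mem_centralizer_iff.mpr ?_⟩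
    intro c hc
    exact (Subgroup.mem_centralizer_iff.mp (Subgroup.mem_inf.mp hc).2 b hb).symm
  have hcard : Nat.card D = Nat.card A := by
    have h3 : Nat.card C * Nat.card A = Nat.card D * Nat.card C := by
      show Nat.card C * Nat.card A = Nat.card D * Nat.card C
      rw [h1]
      exact h2.symm
    have hpos : 0 < Nat.card C := Nat.card_pos
    nlinarith [h3]
  have hAeq : A = D := Subgroup.eq_of_le_of_card_ge hAD (le_of_eq hcard)
  rw [hAeq]
  refine Subgroup.mem_inf.mpr ⟨ha, Subgroup.mem_centralizer_iff.mpr ?_⟩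
  intro c hcC
  have hcC' := Subgroup.mem_inf.mp hcC
  refine (hc c hcC'.1 ?_).symm
  intro b hb
  exact ((Subgroup.mem_centralizer_iff.mp hcC'.2) b hb).symm

/-- Non-membership form of the double centralizer theorem. -/
theorem exists_of_not_mem [Finite G] (h : ES Q z) {A : Subgroup G} (hAQ : A ≤ Q) (hzA : z ∈ A) {a : G}
    (ha : a ∈ Q) (haA : a ∉ A) : ∃ c ∈ Q, (∀ b ∈ A, c * b = b * c) ∧ a * c * a⁻¹ = z * c := by
  by_contra hcon
  push Not at hcon
  apply haA
  apply dc h hAQ hzA ha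
  intro c hc hcomm
  by_contra hne
  exact hcon c hc hcomm (conj_eq h ha hc hne)

/-- An elementary description of extraspecial subgroups. -/
theorem of_extraspecial {Q : Subgroup G} [Finite G] (hE : IsExtraspecial 2 ↥Q) {z : G} (hz : z ∈ Q) (h1 : z ≠ 1)
    (hc : ∀ q ∈ Q, q * z = z * q) : ES Q z := by
  refine ES.of_extraspecial hE Q.subtype Q.subtype_injective (by simp) (t₀ := ⟨z, hz⟩) rfl ?_ ?_
  · intro t
    exact Subtype.ext (hc t.1 t.2)
  · intro e
    exact h1 (congrArg Subtype.val e)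

end ES'

end Cfsg.Agent.Lib.LargeX
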