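/-
Symmetry of orthogonality for conjugates of a central involution of an extraspecial subgroup (helper18).
-/
import Cfsg.Agent.Lib.LargeX.Basic

set_option autoImplicit false

namespace Cfsg.Agent.Lib.LargeX

open Subgroup Cfsg Cfsg.Agent.Lib.TwoFusion

variable {G : Type*} [Group G]

/-- The four-group generated by two commuting involutions. -/
theorem mem_closure_pair {x z : G} (hxx : x * x = 1) (hzz : z * z = 1) (hxz : z * x = x * z) {a : G}
    (ha : a ∈ closure ({x, z} : Set G)) : a = 1 ∨ a = x ∨ a = z ∨ a = x * z := by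
  have h1 : ∀ b, x * (x * b) = b := fun b => by rw [← mul_assoc, hxx, one_mul]
  have h2 : ∀ b, z * (z * b) = b := fun b => by rw [← mul_assoc, hzz, one_mul]
  have h3 : ∀ b, z * (x * b) = x * (z * b) := fun b => by rw [← mul_assoc, hxz, mul_assoc]
  have hi : ∀ b : G, b * b = 1 → b⁻¹ = b := fun b hb => inv_eq_of_mul_eq_one_left hb
  have hxz2 : (x * z) * (x * z) = 1 := by
    simp only [mul_assoc, h3, h1, hzz, mul_one, hxx, h2]
  refine Subgroup.closure_induction (p := fun a _ => a = 1 ∨ a = x ∨ a = z ∨ a = x * z) ?_ ?_ ?_ ?_ ha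
  · intro a ha
    rcases ha with e | e
    · exact Or.inr (Or.inl e)
    · exact Or.inr (Or.inr (Or.inl e))
  · exact Or.inl rfl
  · intro a b _ _ iha ihb
    rcases iha with e | e | e | e <;> rcases ihb with f | f | f | f <;> rw [e, f] <;>
      simp only [one_mul, mul_one, mul_assoc, hxx, hzz, hxz, h1, h2, h3, true_or, or_true]
  · intro a _ iha
    rcases iha with e | e | e | e <;> rw [e]
    · simp
    · rw [hi x hxx]
      exact Or.inr (Or.inl rfl)
    · rw [hi z hzz]
      exact Or.inr (Or.inr (Or.inl rfl))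
    · rw [hi _ hxz2]
      exact Or.inr (Or.inr (Or.inr rfl))

/-- The main setting. -/
structure OrthSetting (Q P : Subgroup G) (z x : G) : Prop where
  esQ : ES Q z
  esP : ES P x
  cQ : ∀ a ∈ Q, a * z = z * a
  cP : ∀ c, (∀ a ∈ P, c * a = a * c) → c ∈ P
  nQ : ∀ c, c * z = z * c → ∀ a ∈ Q, c * a * c⁻¹ ∈ Q
  nP : ∀ c, c * x = x * c → ∀ a ∈ P, c * a * c⁻¹ ∈ P
  xQ : x ∈ Q
  conj : ∀ h, h * z * h⁻¹ = x → ∀ a ∈ Q, h * a * h⁻¹ ∈ P
  card : Nat.card P = Nat.card Q

section

variable {Q P : Subgroup G} {z x : G}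

/-- Commutator of two elements with a central involution. -/
theorem comm_of_conj_eq {a b c : G} (h : a * b * a⁻¹ = c * b) : a * b * a⁻¹ * b⁻¹ = c := by
  rw [h]
  group

/-- A helper: `z` commutes with `x`. -/
theorem OrthSetting.zx (S : OrthSetting Q P z x) : z * x = x * z := (S.cQ x S.xQ).symm

theorem OrthSetting.ne (S : OrthSetting Q P z x) (hz : z ∉ P) : x ≠ z := by
  rintro rfl
  exact hz S.esP.z_mem

/-- The intersection of the two subgroups. -/
theorem OrthSetting.inter [Finite G] (S : OrthSetting Q P z x) (hz : z ∉ P) {e : G} (heQ : e ∈ Q) (heP : e ∈ P) :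
    e = 1 ∨ e = x := by
  have hzz := S.esQ.z_sq
  have hxx := S.esP.z_sq
  have hzx := S.zx
  let A : Subgroup G := closure ({x, z} : Set G)
  have hAQ : A ≤ Q := by
    rw [closure_le]
    rintro a (rfl | rfl)
    · exact S.xQ
    · exact S.esQ.z_mem
  have hzA : z ∈ A := subset_closure (Or.inr rfl)
  have hxA : x ∈ A := subset_closure (Or.inl rfl)
  have he : e ∈ A := by
    apply ES'.dc S.esQ hAQ hzA heQ
    intro c hc hcA
    have hcx : c * x = x * c := hcA x hxA
    -- the commutator lies in `Q` and in `P`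
    by_contra hne
    have h1 := ES'.comm_eq S.esQ heQ hc hne
    have h2 : e * c * e⁻¹ * c⁻¹ ∈ P := by
      have h3 : e * c * e⁻¹ * c⁻¹ = e * (c * e⁻¹ * c⁻¹) := by group
      rw [h3]
      exact P.mul_mem heP (S.nP c hcx _ (P.inv_mem heP))
    rw [h1] at h2
    exact hz h2
  rcases mem_closure_pair hxx hzz hzx he with h1 | h1 | h1 | h1
  · exact Or.inl h1
  · exact Or.inr h1
  · exact absurd (h1 ▸ heP) hz
  · exfalso
    apply hz
    have h2 : z = x⁻¹ * e := by
      rw [h1]
      group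
    rw [h2]
    exact P.mul_mem (P.inv_mem S.esP.z_mem) heP

/-- Commutators of the two centralizers. -/
theorem OrthSetting.rt [Finite G] (S : OrthSetting Q P z x) (hz : z ∉ P) {r t : G} (hr : r ∈ Q) (hrx : r * x = x * r)
    (ht : t ∈ P) (htz : t * z = z * t) : r * t * r⁻¹ = t ∨ r * t * r⁻¹ = x * t := by
  have h1 : r * t * r⁻¹ * t⁻¹ ∈ Q := by
    have h3 : r * t * r⁻¹ * t⁻¹ = r * (t * r⁻¹ * t⁻¹) := by group
    rw [h3]
    exact Q.mul_mem hr (S.nQ t htz _ (Q.inv_mem hr))
  have h2 : r * t * r⁻¹ * t⁻¹ ∈ P := P.mul_mem (S.nP r hrx _ ht) (P.inv_mem ht)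
  rcases S.inter hz h1 h2 with h3 | h3
  · left
    calc r * t * r⁻¹ = (r * t * r⁻¹ * t⁻¹) * t := by group
      _ = t := by rw [h3, one_mul]
  · right
    calc r * t * r⁻¹ = (r * t * r⁻¹ * t⁻¹) * t := by group
      _ = x * t := by rw [h3]

/-- The displacement under `z`. -/
def wz (z u : G) : G := u⁻¹ * (z * u * z⁻¹)

theorem wz_conj (z u : G) : z * u * z⁻¹ = u * wz z u := by
  simp only [wz]
  group

/-- The nonsingular case. -/
theorem OrthSetting.caseA (S : OrthSetting Q P z x) {u : G} (hu : u ∈ P) (h : wz z u * wz z u ≠ 1) : z ∈ P := by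
  have hzz := S.esQ.z_sq
  have hzi : z⁻¹ = z := inv_eq_of_mul_eq_one_left hzz
  have hxx := S.esP.z_sq
  have hzx := S.zx
  have hzu : z * u * z⁻¹ ∈ P := S.nP z hzx u hu
  set w := wz z u with hw
  have hwP : w ∈ P := P.mul_mem (P.inv_mem hu) hzu
  have hww : w * w = x := (S.esP.sq w hwP).resolve_left h
  -- conjugation of `w` by `z`
  have h1 : z * w * z⁻¹ = w⁻¹ := by
    rw [hw, wz, hzi]
    have e : (u⁻¹ * (z * u * z))⁻¹ = z * (u⁻¹ * (z * u)) := by
      simp only [mul_inv_rev, inv_inv, hzi, mul_assoc]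
    rw [e]
    simp only [mul_assoc]
    rw [hzz, mul_one]
  have h2 : w * z * w⁻¹ = x * z := by
    have h3 : z * w⁻¹ * z⁻¹ = w := by
      calc z * w⁻¹ * z⁻¹ = (z * w * z⁻¹)⁻¹ := by group
        _ = w := by rw [h1, inv_inv]
    have h4 : z * w⁻¹ = w * z := by
      calc z * w⁻¹ = (z * w⁻¹ * z⁻¹) * z := by group
        _ = w * z := by rw [h3]
    calc w * z * w⁻¹ = w * (z * w⁻¹) := by group
      _ = w * (w * z) := by rw [h4]
      _ = (w * w) * z := by group
      _ = x * z := by rw [hww]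
  have hxne : x ≠ z := by
    intro e
    have hsq := S.esP.z_sq
    have : w * z * w⁻¹ = 1 := by
      rw [h2, e, hzz]
    exact S.esQ.z_ne (by
      have h5 : z = w⁻¹ * (w * z * w⁻¹) * w := by group
      rw [h5, this]
      group)
  obtain ⟨q, hq, hqx⟩ := ES'.exists_noncomm S.esQ S.xQ S.esP.z_ne hxne
  have h3 : q * x * q⁻¹ = z * x := ES'.conj_eq S.esQ hq S.xQ hqx
  have h4 : q * z * q⁻¹ = z := by
    rw [S.cQ q hq]
    group
  have h5 : w * x * w⁻¹ = x := by
    rw [S.esP.z_central w hwP]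
    group
  have h6 : (q * w) * z * (q * w)⁻¹ = x := by
    calc (q * w) * z * (q * w)⁻¹ = q * (w * z * w⁻¹) * q⁻¹ := by group
      _ = (q * x * q⁻¹) * (q * z * q⁻¹) := by rw [h2]; group
      _ = z * x * z := by rw [h3, h4]
      _ = x * (z * z) := by rw [hzx, mul_assoc]
      _ = x := by rw [hzz, mul_one]
  have h7 : (q * w) * x * (q * w)⁻¹ = z * x := by
    calc (q * w) * x * (q * w)⁻¹ = q * (w * x * w⁻¹) * q⁻¹ := by group
      _ = z * x := by rw [h5, h3]
  have h8 := S.conj (q * w) h6 x S.xQ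
  rw [h7] at h8
  have h9 : z = z * x * x⁻¹ := by group
  rw [h9]
  exact P.mul_mem h8 (P.inv_mem S.esP.z_mem)

end

end Cfsg.Agent.Lib.LargeX
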