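/-
Symmetry of orthogonality: the remaining case (helper18).
-/
import Cfsg.Agent.Lib.LargeX.Core

set_option autoImplicit false

namespace Cfsg.Agent.Lib.LargeX

open Subgroup Cfsg Cfsg.Agent.Lib.TwoFusion

variable {G : Type*} [Group G]

section comm

variable {P : Subgroup G} {x : G}

/-- Commuting from a trivial commutator. -/
theorem comm_of_eq_one {a b : G} (h : a * b * a⁻¹ * b⁻¹ = 1) : a * b = b * a := by
  calc a * b = (a * b * a⁻¹ * b⁻¹) * (b * a) := by group
    _ = b * a := by rw [h, one_mul]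

theorem comm_eq_one {a b : G} (h : a * b = b * a) : a * b * a⁻¹ * b⁻¹ = 1 := by
  rw [h]
  group

/-- Conjugation by an element fixing `x` preserves commutators in `P`. -/
theorem comm_conj (E : ES P x) {h a b : G} (hx : h * x = x * h) (ha : a ∈ P) (hb : b ∈ P) :
    (h * a * h⁻¹) * (h * b * h⁻¹) * (h * a * h⁻¹)⁻¹ * (h * b * h⁻¹)⁻¹ = a * b * a⁻¹ * b⁻¹ := by
  have e : (h * a * h⁻¹) * (h * b * h⁻¹) * (h * a * h⁻¹)⁻¹ * (h * b * h⁻¹)⁻¹
      = h * (a * b * a⁻¹ * b⁻¹) * h⁻¹ := by group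
  rw [e]
  rcases E.comm a ha b hb with e1 | e1
  · rw [e1]
    group
  · rw [e1, hx]
    group

/-- Multiplying by the central involution does not change commutators. -/
theorem comm_x_right (E : ES P x) {a b : G} (ha : a ∈ P) (hb : b ∈ P) :
    a * (x * b) * a⁻¹ * (x * b)⁻¹ = a * b * a⁻¹ * b⁻¹ := by
  rw [E.comm_mul_right ha E.z_mem hb, comm_eq_one (E.z_central a ha), one_mul]

end comm

theorem wz_mul (z u v : G) : wz z (u * v) = v⁻¹ * wz z u * v * wz z v := by
  simp only [wz]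
  group

theorem comm_of_wz_eq_one {z u : G} (h : wz z u = 1) : u * z = z * u := by
  have h1 := wz_conj z u
  rw [h, mul_one] at h1
  calc u * z = (z * u * z⁻¹) * z := by rw [h1]
    _ = z * u := by group

theorem wz_eq_one_of_comm {z u : G} (h : u * z = z * u) : wz z u = 1 := by
  simp only [wz]
  rw [← h]
  group

theorem wz_conj_z {z : G} (hzz : z * z = 1) (u : G) : z * wz z u * z⁻¹ = (wz z u)⁻¹ := by
  have hzi : z⁻¹ = z := inv_eq_of_mul_eq_one_left hzz
  simp only [wz, hzi]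
  have e : (u⁻¹ * (z * u * z))⁻¹ = z * (u⁻¹ * (z * u)) := by
    simp only [mul_inv_rev, inv_inv, hzi, mul_assoc]
  rw [e]
  simp only [mul_assoc]
  rw [hzz, mul_one]

section

variable {Q P : Subgroup G} {z x : G}

theorem OrthSetting.wz_mem (S : OrthSetting Q P z x) {u : G} (hu : u ∈ P) : wz z u ∈ P :=
  P.mul_mem (P.inv_mem hu) (S.nP z S.zx u hu)

theorem OrthSetting.wz_comm_z (S : OrthSetting Q P z x) (hB : ∀ u ∈ P, wz z u * wz z u = 1) {u : G} (hu : u ∈ P) :
    wz z u * z = z * wz z u := by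
  have h1 := wz_conj_z S.esQ.z_sq u
  rw [inv_eq_of_mul_eq_one_left (hB u hu)] at h1
  calc wz z u * z = (z * wz z u * z⁻¹) * z := by rw [h1]
    _ = z * wz z u := by group

theorem OrthSetting.wz_comm_T (S : OrthSetting Q P z x) {v t : G} (hv : v ∈ P) (ht : t ∈ P) (htz : t * z = z * t) :
    wz z v * t = t * wz z v := by
  have E := S.esP
  have h1 := comm_conj E (h := z) S.zx hv ht
  have h2 : z * t * z⁻¹ = t := by
    rw [← htz]
    group
  rw [h2, wz_conj z v, E.comm_mul_left hv (S.wz_mem hv) ht] at h1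
  exact comm_of_eq_one (mul_left_cancel (h1.trans (mul_one _).symm))

theorem OrthSetting.wz_duality (S : OrthSetting Q P z x) (hB : ∀ u ∈ P, wz z u * wz z u = 1) {a v : G}
    (ha : a ∈ P) (hv : v ∈ P) :
    (a * wz z v * a⁻¹ * (wz z v)⁻¹) * (wz z a * v * (wz z a)⁻¹ * v⁻¹) = 1 := by
  have E := S.esP
  have hwa := S.wz_mem ha
  have hwv := S.wz_mem hv
  have h1 := comm_conj E (h := z) S.zx ha hv
  rw [wz_conj z a, wz_conj z v, E.comm_mul_left ha hwa (P.mul_mem hv hwv), E.comm_mul_right ha hv hwv,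
    E.comm_mul_right hwa hv hwv, comm_eq_one (S.wz_comm_T ha hwv (S.wz_comm_z hB hv)), mul_one, mul_assoc] at h1
  exact mul_left_cancel (h1.trans (mul_one _).symm)

/-- An element commuting with all displacements has central displacement. -/
theorem OrthSetting.wz_central (S : OrthSetting Q P z x) (hB : ∀ u ∈ P, wz z u * wz z u = 1) {c : G} (hc : c ∈ P)
    (h : ∀ v ∈ P, c * wz z v = wz z v * c) : wz z c = 1 ∨ wz z c = x := by
  apply S.esP.center _ (S.wz_mem hc)
  intro q hq
  have h1 := S.wz_duality hB hc hq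
  rw [comm_eq_one (h q hq), one_mul] at h1
  exact (comm_of_eq_one h1).symm

/-- Self-centralizing. -/
theorem OrthSetting.comm_z_of_comm_T [Finite G] (S : OrthSetting Q P z x) (hB : ∀ u ∈ P, wz z u * wz z u = 1) {a : G}
    (ha : a ∈ P) (hc : ∀ t ∈ P, t * z = z * t → a * t = t * a) : a * z = z * a := by
  have E := S.esP
  rcases S.wz_central hB ha (fun v hv => hc _ (S.wz_mem hv) (S.wz_comm_z hB hv)) with h | h
  · exact comm_of_wz_eq_one h
  · let B : Subgroup G := closure ({x} ∪ {b | ∃ v ∈ P, b = wz z v})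
    have hBP : B ≤ P := by
      rw [closure_le]
      rintro b (rfl | ⟨v, hv, rfl⟩)
      · exact E.z_mem
      · exact S.wz_mem hv
    have hxB : x ∈ B := subset_closure (Or.inl rfl)
    have hBC : B ≤ centralizer ({z} : Set G) := by
      rw [closure_le]
      rintro b (rfl | ⟨v, hv, rfl⟩)
      · exact Subgroup.mem_centralizer_singleton_iff.mpr S.zx.symm
      · exact Subgroup.mem_centralizer_singleton_iff.mpr (S.wz_comm_z hB hv)
    have haB : a ∈ B := by
      apply ES'.dc E hBP hxB ha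
      intro c hcP hcB
      rcases S.wz_central hB hcP (fun v hv => hcB _ (subset_closure (Or.inr ⟨v, hv, rfl⟩))) with h1 | h1
      · exact hc c hcP (comm_of_wz_eq_one h1)
      · have ha1 : z * a * z⁻¹ = a * x := by rw [wz_conj, h]
        have hc1 : z * c * z⁻¹ = c * x := by rw [wz_conj, h1]
        have ht : z * (c * a⁻¹) * z⁻¹ = c * a⁻¹ := by
          calc z * (c * a⁻¹) * z⁻¹ = (z * c * z⁻¹) * (z * a * z⁻¹)⁻¹ := by group
            _ = c * a⁻¹ := by rw [ha1, hc1]; group
        have h2 := hc (c * a⁻¹) (P.mul_mem hcP (P.inv_mem ha)) (by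
          calc c * a⁻¹ * z = (z * (c * a⁻¹) * z⁻¹) * z := by rw [ht]
            _ = z * (c * a⁻¹) := by group)
        calc a * c = (a * (c * a⁻¹)) * a := by group
          _ = (c * a⁻¹ * a) * a := by rw [h2]
          _ = c * a := by group
    exact Subgroup.mem_centralizer_singleton_iff.mp (hBC haB)

/-- The displacement of an element under a member of the centralizer of `x`, elementwise. -/
theorem OrthSetting.y_comm_T [Finite G] (S : OrthSetting Q P z x) (hz : z ∉ P) {r u t : G} (hr : r ∈ Q)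
    (hrx : r * x = x * r) (hu : u ∈ P) (ht : t ∈ P) (htz : t * z = z * t) :
    (u⁻¹ * (r * u * r⁻¹)) * t = t * (u⁻¹ * (r * u * r⁻¹)) := by
  have E := S.esP
  have hy : u⁻¹ * (r * u * r⁻¹) ∈ P := P.mul_mem (P.inv_mem hu) (S.nP r hrx u hu)
  have e : r * u * r⁻¹ = u * (u⁻¹ * (r * u * r⁻¹)) := by group
  have h1 := comm_conj E hrx hu ht
  have h2 : (r * u * r⁻¹) * (r * t * r⁻¹) * (r * u * r⁻¹)⁻¹ * (r * t * r⁻¹)⁻¹
      = (r * u * r⁻¹) * t * (r * u * r⁻¹)⁻¹ * t⁻¹ := by
    rcases S.rt hz hr hrx ht htz with h3 | h3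
    · rw [h3]
    · rw [h3]
      exact comm_x_right E (S.nP r hrx u hu) ht
  rw [h2] at h1
  rw [e, E.comm_mul_left hu hy ht] at h1
  exact comm_of_eq_one (mul_left_cancel (h1.trans (mul_one _).symm))

theorem OrthSetting.y_comm_z [Finite G] (S : OrthSetting Q P z x) (hz : z ∉ P) (hB : ∀ u ∈ P, wz z u * wz z u = 1)
    {r u : G} (hr : r ∈ Q) (hrx : r * x = x * r) (hu : u ∈ P) :
    (u⁻¹ * (r * u * r⁻¹)) * z = z * (u⁻¹ * (r * u * r⁻¹)) :=
  S.comm_z_of_comm_T hB (P.mul_mem (P.inv_mem hu) (S.nP r hrx u hu))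
    (fun _ ht htz => S.y_comm_T hz hr hrx hu ht htz)

/-- Non-commuting elements of the centralizer of `x` in `Q`. -/
theorem OrthSetting.noncomm_R [Finite G] (S : OrthSetting Q P z x) (hz : z ∉ P) (hB : ∀ u ∈ P, wz z u * wz z u = 1)
    {r₁ r₂ : G} (h₁ : r₁ ∈ Q) (h₂ : r₂ ∈ Q) (h₁x : r₁ * x = x * r₁) (h₂x : r₂ * x = x * r₂) (hne : r₁ * r₂ ≠ r₂ * r₁)
    {v : G} (hv : v ∈ P) : z * v * z⁻¹ = v ∨ z * v * z⁻¹ = v * x := by
  have E := S.esP
  have hk := ES'.comm_eq S.esQ h₁ h₂ hne
  have hk2 : r₁ * r₂ = z * (r₂ * r₁) := by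
    rw [← hk]
    group
  have hax : (r₂ * r₁) * x = x * (r₂ * r₁) := by
    rw [mul_assoc, h₁x, ← mul_assoc, h₂x, mul_assoc]
  have haix : (r₂ * r₁)⁻¹ * x = x * (r₂ * r₁)⁻¹ := by
    calc (r₂ * r₁)⁻¹ * x = (r₂ * r₁)⁻¹ * (x * (r₂ * r₁)) * (r₂ * r₁)⁻¹ := by group
      _ = (r₂ * r₁)⁻¹ * ((r₂ * r₁) * x) * (r₂ * r₁)⁻¹ := by rw [hax]
      _ = x * (r₂ * r₁)⁻¹ := by group
  obtain ⟨u, hu, rfl⟩ : ∃ u ∈ P, v = (r₂ * r₁) * u * (r₂ * r₁)⁻¹ := by
    refine ⟨(r₂ * r₁)⁻¹ * v * ((r₂ * r₁)⁻¹)⁻¹, S.nP _ haix v hv, by group⟩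
  have hy₁ : u⁻¹ * (r₁ * u * r₁⁻¹) ∈ P := P.mul_mem (P.inv_mem hu) (S.nP r₁ h₁x u hu)
  have hy₂ : u⁻¹ * (r₂ * u * r₂⁻¹) ∈ P := P.mul_mem (P.inv_mem hu) (S.nP r₂ h₂x u hu)
  have cy₁ := S.y_comm_z hz hB h₁ h₁x hu
  have cy₂ := S.y_comm_z hz hB h₂ h₂x hu
  have e₁ : r₁ * u * r₁⁻¹ = u * (u⁻¹ * (r₁ * u * r₁⁻¹)) := by group
  have e₂ : r₂ * u * r₂⁻¹ = u * (u⁻¹ * (r₂ * u * r₂⁻¹)) := by group
  have hcomm := S.y_comm_T hz h₂ h₂x hu hy₁ cy₁
  have a1 := S.rt hz h₂ h₂x hy₁ cy₁
  have a2 := S.rt hz h₁ h₁x hy₂ cy₂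
  generalize u⁻¹ * (r₁ * u * r₁⁻¹) = y₁ at *
  generalize u⁻¹ * (r₂ * u * r₂⁻¹) = y₂ at *
  have hv1 : (r₂ * r₁) * u * (r₂ * r₁)⁻¹ = u * y₂ * (r₂ * y₁ * r₂⁻¹) := by
    calc (r₂ * r₁) * u * (r₂ * r₁)⁻¹ = r₂ * (r₁ * u * r₁⁻¹) * r₂⁻¹ := by group
      _ = (r₂ * u * r₂⁻¹) * (r₂ * y₁ * r₂⁻¹) := by rw [e₁]; group
      _ = u * y₂ * (r₂ * y₁ * r₂⁻¹) := by rw [e₂]
  have hv2 : z * ((r₂ * r₁) * u * (r₂ * r₁)⁻¹) * z⁻¹ = u * y₁ * (r₁ * y₂ * r₁⁻¹) := by
    calc z * ((r₂ * r₁) * u * (r₂ * r₁)⁻¹) * z⁻¹ = (z * (r₂ * r₁)) * u * (z * (r₂ * r₁))⁻¹ := by group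
      _ = (r₁ * r₂) * u * (r₁ * r₂)⁻¹ := by rw [hk2]
      _ = r₁ * (r₂ * u * r₂⁻¹) * r₁⁻¹ := by group
      _ = (r₁ * u * r₁⁻¹) * (r₁ * y₂ * r₁⁻¹) := by rw [e₂]; group
      _ = u * y₁ * (r₁ * y₂ * r₁⁻¹) := by rw [e₁]
  rw [hv2, hv1]
  have c1 : y₁ * x = x * y₁ := E.z_central y₁ hy₁
  have c2 : y₂ * x = x * y₂ := E.z_central y₂ hy₂
  have xx := E.z_sq
  rcases a1 with a1 | a1 <;> rcases a2 with a2 | a2 <;> rw [a1, a2]
  · left
    rw [mul_assoc, mul_assoc, hcomm]
  · right
    calc u * y₁ * (x * y₂) = u * y₁ * (y₂ * x) := by rw [c2]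
      _ = u * (y₁ * y₂) * x := by group
      _ = u * (y₂ * y₁) * x := by rw [hcomm]
      _ = u * y₂ * y₁ * x := by group
  · right
    calc u * y₁ * y₂ = u * (y₁ * y₂) := by group
      _ = u * (y₂ * y₁) := by rw [hcomm]
      _ = u * y₂ * y₁ * (x * x) := by rw [xx]; group
      _ = u * y₂ * (y₁ * x) * x := by group
      _ = u * y₂ * (x * y₁) * x := by rw [c1]
  · left
    calc u * y₁ * (x * y₂) = u * (y₁ * x) * y₂ := by group
      _ = u * (x * y₁) * y₂ := by rw [c1]
      _ = u * x * (y₁ * y₂) := by group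
      _ = u * x * (y₂ * y₁) := by rw [hcomm]
      _ = u * (x * y₂) * y₁ := by group
      _ = u * (y₂ * x) * y₁ := by rw [c2]
      _ = u * y₂ * (x * y₁) := by group

/-- If the central involution displaces everything by at most `x`, then it lies in `P`. -/
theorem OrthSetting.of_all [Finite G] (S : OrthSetting Q P z x) (h : ∀ v ∈ P, z * v * z⁻¹ = v ∨ z * v * z⁻¹ = v * x) :
    z ∈ P := by
  have E := S.esP
  by_cases hall : ∀ v ∈ P, z * v * z⁻¹ = v
  · apply S.cP
    intro a ha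
    calc z * a = (z * a * z⁻¹) * z := by group
      _ = a * z := by rw [hall a ha]
  · push Not at hall
    obtain ⟨a, ha, hna⟩ := hall
    have ha1 : z * a * z⁻¹ = a * x := (h a ha).resolve_left hna
    let T : Subgroup G := P ⊓ centralizer ({z} : Set G)
    have hTP : T ≤ P := inf_le_left
    have hmemT : ∀ t, t ∈ P → z * t * z⁻¹ = t → t ∈ T := by
      intro t ht e
      refine Subgroup.mem_inf.mpr ⟨ht, Subgroup.mem_centralizer_singleton_iff.mpr ?_⟩
      calc t * z = (z * t * z⁻¹) * z := by rw [e]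
        _ = z * t := by group
    have hxT : x ∈ T := hmemT x E.z_mem (by
      rw [S.zx]
      group)
    have haT : a ∉ T := by
      intro hT
      apply hna
      have := Subgroup.mem_centralizer_singleton_iff.mp (Subgroup.mem_inf.mp hT).2
      rw [← this]
      group
    obtain ⟨p, hp, hpT, hap⟩ := ES'.exists_of_not_mem E hTP hxT ha haT
    have hp1 : p⁻¹ * a * p = x * a := by
      have e : a * p = x * (p * a) := by
        calc a * p = (a * p * a⁻¹) * a := by group
          _ = x * (p * a) := by rw [hap, mul_assoc]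
      calc p⁻¹ * a * p = p⁻¹ * (a * p) := by group
        _ = p⁻¹ * (x * (p * a)) := by rw [e]
        _ = (p⁻¹ * x) * (p * a) := by group
        _ = (x * p⁻¹) * (p * a) := by rw [E.z_central _ (P.inv_mem hp)]
        _ = x * a := by group
    have hi : z * p⁻¹ ∈ P := by
      apply S.cP
      intro v hv
      rcases h v hv with h1 | h1
      · have hvT := hmemT v hv h1
        have h2 := hpT v hvT
        have h3 : p⁻¹ * v = v * p⁻¹ := by
          calc p⁻¹ * v = p⁻¹ * (v * p) * p⁻¹ := by group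
            _ = p⁻¹ * (p * v) * p⁻¹ := by rw [h2]
            _ = v * p⁻¹ := by group
        calc z * p⁻¹ * v = z * (p⁻¹ * v) := by group
          _ = z * (v * p⁻¹) := by rw [h3]
          _ = (z * v * z⁻¹) * z * p⁻¹ := by group
          _ = v * (z * p⁻¹) := by rw [h1, mul_assoc]
      · have hatv : a⁻¹ * v ∈ P := P.mul_mem (P.inv_mem ha) hv
        have ht : z * (a⁻¹ * v) * z⁻¹ = a⁻¹ * v := by
          calc z * (a⁻¹ * v) * z⁻¹ = (z * a * z⁻¹)⁻¹ * (z * v * z⁻¹) := by group
            _ = x⁻¹ * (a⁻¹ * v) * x := by rw [ha1, h1]; group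
            _ = x⁻¹ * (x * (a⁻¹ * v)) := by rw [mul_assoc, E.z_central _ hatv]
            _ = a⁻¹ * v := by group
        have h2 := hpT _ (hmemT _ hatv ht)
        have h3 : p⁻¹ * v * p = x * v := by
          have h4 : p⁻¹ * (a⁻¹ * v) = (a⁻¹ * v) * p⁻¹ := by
            calc p⁻¹ * (a⁻¹ * v) = p⁻¹ * ((a⁻¹ * v) * p) * p⁻¹ := by group
              _ = p⁻¹ * (p * (a⁻¹ * v)) * p⁻¹ := by rw [h2]
              _ = (a⁻¹ * v) * p⁻¹ := by group
          calc p⁻¹ * v * p = (p⁻¹ * a * p) * (p⁻¹ * (a⁻¹ * v)) * p := by group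
            _ = (x * a) * ((a⁻¹ * v) * p⁻¹) * p := by rw [hp1, h4]
            _ = x * v := by group
        have h5 : z * (x * v) * z⁻¹ = v := by
          calc z * (x * v) * z⁻¹ = (z * x) * v * z⁻¹ := by group
            _ = (x * z) * v * z⁻¹ := by rw [S.zx]
            _ = x * (z * v * z⁻¹) := by group
            _ = x * (v * x) := by rw [h1]
            _ = x * (x * v) := by rw [E.z_central v hv]
            _ = (x * x) * v := by group
            _ = v := by rw [E.z_sq, one_mul]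
        calc z * p⁻¹ * v = z * (p⁻¹ * v * p) * p⁻¹ := by group
          _ = (z * (x * v) * z⁻¹) * z * p⁻¹ := by rw [h3]; group
          _ = v * (z * p⁻¹) := by rw [h5, mul_assoc]
    have e : z = z * p⁻¹ * p := by group
    rw [e]
    exact P.mul_mem hi hp

/-- A bound on the order of `Q` when the centralizer of `x` in `Q` is abelian. -/
theorem OrthSetting.card_le_eight [Finite G] (S : OrthSetting Q P z x)
    (hR : ∀ r₁ ∈ Q, ∀ r₂ ∈ Q, r₁ * x = x * r₁ → r₂ * x = x * r₂ → r₁ * r₂ = r₂ * r₁) : Nat.card Q ≤ 8 := by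
  classical
  let A : Subgroup G := closure ({x, z} : Set G)
  have hAQ : A ≤ Q := by
    rw [closure_le]
    rintro a (rfl | rfl)
    · exact S.xQ
    · exact S.esQ.z_mem
  have hzA : z ∈ A := subset_closure (Or.inr rfl)
  have hxA : x ∈ A := subset_closure (Or.inl rfl)
  have h1 := ES.card_centralizer_mul S.esQ A hAQ hzA
  let R : Subgroup G := Q ⊓ centralizer (A : Set G)
  have hRQ : R ≤ Q := inf_le_left
  have hzR : z ∈ R := by
    refine Subgroup.mem_inf.mpr ⟨S.esQ.z_mem, Subgroup.mem_centralizer_iff.mpr ?_⟩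
    intro b hb
    exact S.esQ.z_central b (hAQ hb)
  have h2 := ES.card_centralizer_mul S.esQ R hRQ hzR
  have hle : R ≤ Q ⊓ centralizer (R : Set G) := by
    intro a ha
    refine Subgroup.mem_inf.mpr ⟨hRQ ha, Subgroup.mem_centralizer_iff.mpr ?_⟩
    intro b hb
    have ha' := Subgroup.mem_inf.mp ha
    have hb' := Subgroup.mem_inf.mp hb
    exact hR b hb'.1 a ha'.1 ((Subgroup.mem_centralizer_iff.mp hb'.2 x hxA).symm)
      ((Subgroup.mem_centralizer_iff.mp ha'.2 x hxA).symm)
  have hcard := Subgroup.card_le_of_le hle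
  have hA4 : Nat.card A ≤ 4 := by
    have hsub : (A : Set G) ⊆ (({1, x, z, x * z} : Finset G) : Set G) := by
      intro a ha
      have := mem_closure_pair S.esP.z_sq S.esQ.z_sq S.zx ha
      simpa using this
    have h3 := Set.ncard_le_ncard hsub (Finset.finite_toSet _)
    rw [Set.ncard_coe_finset] at h3
    have h4 : Nat.card A = (A : Set G).ncard := rfl
    rw [h4]
    exact h3.trans Finset.card_le_four
  change Nat.card R * Nat.card A = 2 * Nat.card Q at h1
  have hRpos : 0 < Nat.card R := Nat.card_pos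
  have h5 : Nat.card R ≤ Nat.card A := by
    have h6 : Nat.card R * Nat.card R ≤ Nat.card R * Nat.card A := by
      calc Nat.card R * Nat.card R ≤ Nat.card ↥(Q ⊓ centralizer (R : Set G)) * Nat.card R :=
            Nat.mul_le_mul_right _ hcard
        _ = Nat.card R * Nat.card A := by rw [h2, h1]
    exact Nat.le_of_mul_le_mul_left h6 hRpos
  nlinarith

/-- The main theorem: orthogonality is symmetric. -/
theorem OrthSetting.main [Finite G] (S : OrthSetting Q P z x) : z ∈ P := by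
  classical
  by_contra hz
  by_cases hA : ∃ u ∈ P, wz z u * wz z u ≠ 1
  · obtain ⟨u, hu, h⟩ := hA
    exact hz (S.caseA hu h)
  push Not at hA
  by_cases hR : ∃ r₁ ∈ Q, ∃ r₂ ∈ Q, r₁ * x = x * r₁ ∧ r₂ * x = x * r₂ ∧ r₁ * r₂ ≠ r₂ * r₁
  · obtain ⟨r₁, h₁, r₂, h₂, h₁x, h₂x, hne⟩ := hR
    exact hz (S.of_all fun v hv => S.noncomm_R hz hA h₁ h₂ h₁x h₂x hne hv)
  push Not at hR
  have hQ8 : Nat.card Q ≤ 8 := S.card_le_eight hR
  have E := S.esP
  have hu : ∃ u ∈ P, wz z u ≠ 1 ∧ wz z u ≠ x := by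
    by_contra hc
    push Not at hc
    apply hz
    apply S.of_all
    intro v hv
    rw [wz_conj]
    by_cases h : wz z v = 1
    · left
      rw [h, mul_one]
    · right
      rw [hc v hv h]
  obtain ⟨u, hu, hw1, hwx⟩ := hu
  have hwP := S.wz_mem hu
  have hww := hA u hu
  have hzu := wz_conj z u
  have hwi : (wz z u)⁻¹ = wz z u := inv_eq_of_mul_eq_one_left hww
  generalize hw : wz z u = w at *
  have huw : u * w = w * u := by
    have h1 : (z * u * z⁻¹) * (z * u * z⁻¹) = u * u := by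
      have e : (z * u * z⁻¹) * (z * u * z⁻¹) = z * (u * u) * z⁻¹ := by group
      rw [e]
      rcases E.sq u hu with h2 | h2
      · rw [h2]
        group
      · rw [h2, S.zx]
        group
    rw [hzu] at h1
    have h2 : w * u * w = u := by
      have h3 : u * (w * u * w) = u * u := by
        rw [← h1]
        group
      exact mul_left_cancel h3
    calc u * w = (w * u * w) * w := by rw [h2]
      _ = w * u * (w * w) := by group
      _ = w * u := by rw [hww, mul_one]
  have hux : u ≠ x := by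
    rintro rfl
    exact hw1 (hw ▸ wz_eq_one_of_comm S.zx.symm)
  have hu1 : u ≠ 1 := by
    rintro rfl
    apply hw1
    rw [← hw, wz]
    group
  have hwu : w ≠ u := by
    rintro rfl
    have h1 : z * w * z⁻¹ = 1 ∨ z * w * z⁻¹ = x := by
      rw [hzu]
      exact hww |> fun e => Or.inl e
    have h2 : z * w * z⁻¹ = 1 := by rw [hzu, hww]
    apply hw1
    have e : w = z⁻¹ * (z * w * z⁻¹) * z := by group
    rw [e, h2]
    group
  have hwxu : w ≠ x * u := by
    intro e
    have h2 : z * u * z⁻¹ = x * (u * u) := by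
      rw [hzu, e]
      calc u * (x * u) = (u * x) * u := by group
        _ = (x * u) * u := by rw [E.z_central u hu]
        _ = x * (u * u) := by group
    rcases E.sq u hu with h3 | h3
    · rw [h3, mul_one] at h2
      apply hux
      have e2 : u = z⁻¹ * (z * u * z⁻¹) * z := by group
      have e3 : z⁻¹ * x * z = x := by
        calc z⁻¹ * x * z = z⁻¹ * (x * z) := by group
          _ = z⁻¹ * (z * x) := by rw [S.zx]
          _ = x := by group
      rw [e2, h2, e3]
    · rw [h3, E.z_sq] at h2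
      apply hu1
      have e2 : u = z⁻¹ * (z * u * z⁻¹) * z := by group
      rw [e2, h2]
      group
  let k : Set G := {x, u, w}
  have hk : ∀ a ∈ k, ∀ b ∈ k, a * b = b * a := by
    have hxu : x * u = u * x := (E.z_central u hu).symm
    have hxw : x * w = w * x := (E.z_central w hwP).symm
    rintro a (rfl | rfl | rfl) b (rfl | rfl | rfl)
    all_goals first | rfl | assumption | (symm; assumption)
  let F : Subgroup G := closure k
  haveI hcomm : IsMulCommutative F := Subgroup.isMulCommutative_closure hk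
  have hFP : F ≤ P := by
    rw [closure_le]
    rintro a (rfl | rfl | rfl)
    · exact E.z_mem
    · exact hu
    · exact hwP
  have hxF : x ∈ F := subset_closure (Or.inl rfl)
  have huF : u ∈ F := subset_closure (Or.inr (Or.inl rfl))
  have hwF : w ∈ F := subset_closure (Or.inr (Or.inr rfl))
  have h1 := ES.card_centralizer_mul E F hFP hxF
  have hle : F ≤ P ⊓ centralizer (F : Set G) := by
    intro a ha
    refine Subgroup.mem_inf.mpr ⟨hFP ha, Subgroup.mem_centralizer_iff.mpr ?_⟩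
    intro b hb
    have := mul_comm' (⟨b, hb⟩ : F) ⟨a, ha⟩
    exact congrArg Subtype.val this
  have hcard := Subgroup.card_le_of_le hle
  rw [S.card] at h1
  have h5 : 5 ≤ Nat.card F := by
    have hsub : (({1, x, u, x * u, w} : Finset G) : Set G) ⊆ (F : Set G) := by
      intro a ha
      simp only [Finset.coe_insert, Finset.coe_singleton, Set.mem_insert_iff, Set.mem_singleton_iff] at ha
      rcases ha with rfl | rfl | rfl | rfl | rfl
      · exact F.one_mem
      · exact hxF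
      · exact huF
      · exact F.mul_mem hxF huF
      · exact hwF
    have h3 := Set.ncard_le_ncard hsub (Set.toFinite _)
    rw [Set.ncard_coe_finset] at h3
    have h4 : Nat.card F = (F : Set G).ncard := rfl
    rw [h4]
    refine le_trans (le_of_eq ?_) h3
    have hne1 : (1 : G) ≠ x := E.z_ne.symm
    have hxxu : x ≠ x * u := by
      intro e
      apply hu1
      exact mul_left_cancel (a := x) (by rw [← e, mul_one])
    have hu_xu : u ≠ x * u := by
      intro e
      apply E.z_ne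
      exact mul_right_cancel (b := u) (by rw [← e, one_mul])
    have h1xu : (1 : G) ≠ x * u := by
      intro e
      apply hux
      have e2 : u = x⁻¹ * (x * u) := by group
      rw [e2, ← e, inv_eq_of_mul_eq_one_left E.z_sq, mul_one]
    rw [Finset.card_insert_of_notMem, Finset.card_insert_of_notMem, Finset.card_insert_of_notMem,
      Finset.card_insert_of_notMem, Finset.card_singleton]
    · simpa using hwxu.symm
    · simp only [Finset.mem_insert, Finset.mem_singleton, not_or]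
      exact ⟨hu_xu, hwu.symm⟩
    · simp only [Finset.mem_insert, Finset.mem_singleton, not_or]
      exact ⟨hux.symm, hxxu, hwx.symm⟩
    · simp only [Finset.mem_insert, Finset.mem_singleton, not_or]
      exact ⟨hne1, hu1.symm, h1xu, hw1.symm⟩
  have h6 : Nat.card F * Nat.card F ≤ 16 := by
    calc Nat.card F * Nat.card F ≤ Nat.card ↥(P ⊓ centralizer (F : Set G)) * Nat.card F :=
          Nat.mul_le_mul_right _ hcard
      _ = 2 * Nat.card Q := h1
      _ ≤ 16 := by omega
  nlinarith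

end

end Cfsg.Agent.Lib.LargeX
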