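/-
The large extraspecial setting with `Q x = O₂(C_G(x))` (helper18).
-/
import Cfsg.Agent.Lib.LargeX.CaseB

set_option autoImplicit false

namespace Cfsg.Agent.Lib.LargeX

open Subgroup Cfsg Cfsg.Agent.Lib.TwoFusion

variable {G : Type*} [Group G]

/-- The largest normal 2-subgroup of the centralizer of `x`, inside `G`. -/
def O2C (x : G) : Subgroup G :=
  (pCore 2 ↥(centralizer ({x} : Set G))).map (centralizer ({x} : Set G)).subtype

theorem O2C_comm {x a : G} (ha : a ∈ O2C x) : a * x = x * a := by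
  obtain ⟨b, _, rfl⟩ := ha
  exact Subgroup.mem_centralizer_singleton_iff.mp b.2

/-- The isomorphism of centralizers given by conjugation. -/
def centConj (h y : G) : ↥(centralizer ({y} : Set G)) ≃* ↥(centralizer ({h * y * h⁻¹} : Set G)) where
  toFun a := ⟨h * a.1 * h⁻¹, by
    have h1 := Subgroup.mem_centralizer_singleton_iff.mp a.2
    refine Subgroup.mem_centralizer_singleton_iff.mpr ?_
    calc h * a.1 * h⁻¹ * (h * y * h⁻¹) = h * (a.1 * y) * h⁻¹ := by group
      _ = h * (y * a.1) * h⁻¹ := by rw [h1]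
      _ = h * y * h⁻¹ * (h * a.1 * h⁻¹) := by group⟩
  invFun a := ⟨h⁻¹ * a.1 * h, by
    have h1 := Subgroup.mem_centralizer_singleton_iff.mp a.2
    refine Subgroup.mem_centralizer_singleton_iff.mpr ?_
    calc h⁻¹ * a.1 * h * y = h⁻¹ * (a.1 * (h * y * h⁻¹)) * h := by group
      _ = h⁻¹ * ((h * y * h⁻¹) * a.1) * h := by rw [h1]
      _ = y * (h⁻¹ * a.1 * h) := by group⟩
  left_inv a := Subtype.ext (show h⁻¹ * (h * a.1 * h⁻¹) * h = a.1 by group)
  right_inv a := Subtype.ext (show h * (h⁻¹ * a.1 * h) * h⁻¹ = a.1 by group)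
  map_mul' a b := Subtype.ext (show h * (a.1 * b.1) * h⁻¹ = (h * a.1 * h⁻¹) * (h * b.1 * h⁻¹) by group)

theorem O2C_conj_le (h y : G) {a : G} (ha : a ∈ O2C y) : h * a * h⁻¹ ∈ O2C (h * y * h⁻¹) := by
  obtain ⟨b, hb, rfl⟩ := ha
  exact ⟨centConj h y b, (Fusion2.mem_pCore_equiv 2 (centConj h y)).mpr hb, rfl⟩

theorem O2C_conj (h y : G) : O2C (h * y * h⁻¹) = (O2C y).map (MulAut.conj h).toMonoidHom := by
  apply le_antisymm
  · intro a ha
    have h1 := O2C_conj_le h⁻¹ (h * y * h⁻¹) ha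
    have e1 : h⁻¹ * (h * y * h⁻¹) * h⁻¹⁻¹ = y := by group
    rw [e1] at h1
    refine ⟨_, h1, ?_⟩
    show h * (h⁻¹ * a * h⁻¹⁻¹) * h⁻¹ = a
    group
  · rintro _ ⟨a, ha, rfl⟩
    exact O2C_conj_le h y ha

theorem O2C_normal {x c a : G} (hc : c * x = x * c) (ha : a ∈ O2C x) : c * a * c⁻¹ ∈ O2C x := by
  have h1 := O2C_conj_le c x ha
  have e : c * x * c⁻¹ = x := by
    rw [hc]
    group
  rwa [e] at h1

/-- The setting: `z` is an involution, `O2C z` is extraspecial and self-centralizing. -/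
structure Large (z : G) : Prop where
  es : ES (O2C z) z
  self : centralizer ((O2C z : Subgroup G) : Set G) ≤ O2C z

/-- The setting from the hypotheses of the statements. -/
theorem Large.of_hyp [Finite G] {z : G} (hz : orderOf z = 2) (hE : IsExtraspecial 2 ↥(O2C z))
    (hC : centralizer ((O2C z : Subgroup G) : Set G) ≤ O2C z) : Large z := by
  have hzmem : z ∈ O2C z := by
    apply hC
    refine Subgroup.mem_centralizer_iff.mpr ?_
    intro a ha
    exact O2C_comm ha
  refine ⟨ES'.of_extraspecial hE hzmem ?_ (fun q hq => O2C_comm hq), hC⟩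
  rintro rfl
  simp at hz

/-- Being large passes to conjugates. -/
theorem Large.conj [Finite G] {z : G} (L : Large z) (g : G) : Large (g * z * g⁻¹) := by
  constructor
  · rw [O2C_conj]
    exact es_conj L.es g
  · intro c hc
    rw [O2C_conj] at hc ⊢
    refine ⟨g⁻¹ * c * g, L.self (Subgroup.mem_centralizer_iff.mpr ?_), ?_⟩
    · intro a ha
      have h1 := Subgroup.mem_centralizer_iff.mp hc (g * a * g⁻¹) ⟨a, ha, rfl⟩
      have e1 : a * (g⁻¹ * c * g) = g⁻¹ * ((g * a * g⁻¹) * c) * g := by group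
      have e2 : g⁻¹ * c * g * a = g⁻¹ * (c * (g * a * g⁻¹)) * g := by group
      rw [e1, e2, h1]
    · show g * (g⁻¹ * c * g) * g⁻¹ = c
      group

/-- The orthogonality setting. -/
theorem Large.orthSetting [Finite G] {z : G} (L : Large z) (g : G) (hx : g * z * g⁻¹ ∈ O2C z) :
    OrthSetting (O2C z) (O2C (g * z * g⁻¹)) z (g * z * g⁻¹) := by
  have L' := L.conj g
  refine ⟨L.es, L'.es, fun a ha => O2C_comm ha, ?_, fun c hc a ha => O2C_normal hc ha,
    fun c hc a ha => O2C_normal hc ha, hx, ?_, ?_⟩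
  · intro c hc
    exact L'.self (Subgroup.mem_centralizer_iff.mpr fun a ha => (hc a ha).symm)
  · intro h hh a ha
    rw [← hh]
    exact O2C_conj_le h z ha
  · rw [O2C_conj]
    exact Nat.card_congr (Subgroup.equivMapOfInjective _ _ (MulAut.conj g).injective).symm.toEquiv

/-- Orthogonality is symmetric. -/
theorem Large.orth_symm [Finite G] {z : G} (L : Large z) (g : G) (hx : g * z * g⁻¹ ∈ O2C z) :
    z ∈ O2C (g * z * g⁻¹) :=
  (L.orthSetting g hx).main

end Cfsg.Agent.Lib.LargeX
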